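import Groth.Agent.GorLib.MCM
import Groth.Agent.GorLib.Socle
import Groth.Agent.CatLib.CM
import Groth.Agent.CatLib.Flat
import Mathlib.RingTheory.Ideal.AssociatedPrime.Localization
import Mathlib.RingTheory.Ideal.MinimalPrime.Localization
import Mathlib.RingTheory.Ideal.KrullsHeightTheorem

/-! # Linkage: associated primes, heights, double colons -/

set_option autoImplicit false
set_option linter.style.haveILetI false

universe u

open IsLocalRing CommAlgDim

namespace LiaisonLib

variable {A : Type u} [CommRing A]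

theorem map_mem_associatedPrimes [IsNoetherianRing A] {I P : Ideal A} (h : P ∈ associatedPrimes A (A ⧸ I)) :
    I ≤ P ∧ P.map (Ideal.Quotient.mk I) ∈ associatedPrimes (A ⧸ I) (A ⧸ I) := by
  obtain ⟨hp, x, hx⟩ := isAssociatedPrime_iff.1 h
  have hmem : ∀ a, a ∈ P ↔ Ideal.Quotient.mk I a * x = 0 := fun a => by
    rw [hx, Submodule.mem_colon_singleton, Submodule.mem_bot, Algebra.smul_def]
    rfl
  have hIP : I ≤ P := fun a ha => (hmem a).2 (by rw [Ideal.Quotient.eq_zero_iff_mem.2 ha, zero_mul])
  refine ⟨hIP, isAssociatedPrime_iff.2 ⟨Ideal.map_isPrime_of_surjective Ideal.Quotient.mk_surjective (by rwa [Ideal.mk_ker]), x, ?_⟩⟩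
  ext z
  obtain ⟨a, rfl⟩ := Ideal.Quotient.mk_surjective z
  rw [Submodule.mem_colon_singleton, Submodule.mem_bot, smul_eq_mul, ← hmem,
    ← Ideal.mem_comap, Ideal.comap_map_of_surjective _ Ideal.Quotient.mk_surjective, ← RingHom.ker_eq_comap_bot,
    Ideal.mk_ker, sup_eq_left.2 hIP]

theorem mem_associatedPrimes_of_minimal [IsNoetherianRing A] {I P : Ideal A} (h : P ∈ I.minimalPrimes) :
    P ∈ associatedPrimes A (A ⧸ I) :=
  Module.associatedPrimes.minimalPrimes_annihilator_subset_associatedPrimes A (A ⧸ I) (by rwa [Ideal.annihilator_quotient])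

/-- A Cohen–Macaulay ring has no embedded primes. -/
theorem minimal_of_mem_associatedPrimes [IsNoetherianRing A] {I P : Ideal A} (hI : LocCoh.IsCohenMacaulayRing (A ⧸ I))
    (h : P ∈ associatedPrimes A (A ⧸ I)) : P ∈ I.minimalPrimes := by
  obtain ⟨hIP, hass⟩ := map_mem_associatedPrimes h
  haveI := hass.1
  set P' := P.map (Ideal.Quotient.mk I) with hP'
  let T := Localization.AtPrime P'
  haveI := hI.isCohenMacaulayLocalRing_localization P'
  have hT := SMTLib.isCM_of_isCohenMacaulayLocalRing T
  have hmax : maximalIdeal T ∈ associatedPrimes T T :=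
    Module.associatedPrimes.mem_associatedPrimes_of_comap_mem_associatedPrimes_of_isLocalizedModule P'.primeCompl
      (Algebra.linearMap (A ⧸ I) T) _ (by
        rw [← Ideal.under_def, IsLocalization.AtPrime.under_maximalIdeal T P']; exact hass)
  have h1 := CatLib.ringKrullDim_quotient_of_mem_associatedPrimes hT hmax
  letI := Ideal.Quotient.field (maximalIdeal T)
  rw [ringKrullDim_eq_zero_of_field, IsLocalization.AtPrime.ringKrullDim_eq_height P' T] at h1
  have h2 : P'.height = 0 := (WithBot.coe_inj.1 h1).symm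
  rw [Ideal.height_eq_zero_iff] at h2
  have h3 := CatLib.comap_mem_minimalPrimes h2
  rwa [hP', Ideal.comap_map_of_surjective _ Ideal.Quotient.mk_surjective, ← RingHom.ker_eq_comap_bot,
    Ideal.mk_ker, sup_eq_left.2 hIP] at h3

theorem ne_top_of_height_eq {I : Ideal A} {c : ℕ} (h : I.height = c) : I ≠ ⊤ := fun he => by
  rw [he, Ideal.height_top] at h
  exact ENat.natCast_ne_top c h.symm

theorem height_eq_of_forall {J : Ideal A} {c : ℕ} (hne : J ≠ ⊤) (h : ∀ P ∈ J.minimalPrimes, P.height = c) :
    J.height = c := by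
  obtain ⟨P, hP⟩ := Ideal.nonempty_minimalPrimes hne
  rw [Ideal.height_eq_inf_minimalPrimes]
  exact le_antisymm ((iInf₂_le P hP).trans (h P hP).le) (le_iInf₂ fun Q hQ => (h Q hQ).ge)

/-- Associated primes of a colon are associated to the ideal. -/
theorem associatedPrimes_colon [IsNoetherianRing A] {c I P : Ideal A}
    (h : P ∈ associatedPrimes A (A ⧸ c.colon (I : Set A))) : P ∈ associatedPrimes A (A ⧸ c) := by
  classical
  obtain ⟨hp, x, hx⟩ := isAssociatedPrime_iff.1 h
  obtain ⟨y, rfl⟩ := Ideal.Quotient.mk_surjective x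
  obtain ⟨G, hG⟩ := IsNoetherian.noetherian I
  have hmem : ∀ a, a ∈ P ↔ a * y ∈ c.colon (I : Set A) := fun a => by
    rw [hx, Submodule.mem_colon_singleton, Submodule.mem_bot, Algebra.smul_def, Ideal.Quotient.algebraMap_eq,
      ← map_mul, Ideal.Quotient.eq_zero_iff_mem]
  have hP : P = G.inf fun g => (⊥ : Submodule A (A ⧸ c)).colon {Ideal.Quotient.mk c (y * g)} := by
    ext a
    rw [hmem, Submodule.mem_finsetInf, Submodule.mem_colon]
    constructor
    · intro ha g hg
      rw [Submodule.mem_colon_singleton, Submodule.mem_bot, Algebra.smul_def, Ideal.Quotient.algebraMap_eq,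
        ← map_mul, Ideal.Quotient.eq_zero_iff_mem, ← mul_assoc]
      exact ha g (hG ▸ Submodule.subset_span hg)
    · intro ha i hi
      rw [← hG] at hi
      refine Submodule.span_induction ?_ ?_ ?_ ?_ hi
      · intro g hg
        have := ha g hg
        rwa [Submodule.mem_colon_singleton, Submodule.mem_bot, Algebra.smul_def, Ideal.Quotient.algebraMap_eq,
          ← map_mul, Ideal.Quotient.eq_zero_iff_mem, ← mul_assoc] at this
      · simp
      · intro u v _ _ hu hv
        simp only [smul_eq_mul, mul_add] at hu hv ⊢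
        exact add_mem hu hv
      · intro r u _ hu
        simp only [smul_eq_mul] at hu ⊢
        rw [show a * y * (r * u) = r * (a * y * u) by ring]
        exact c.mul_mem_left r hu
  obtain ⟨g, hg, hgP⟩ := (Ideal.IsPrime.inf_le' hp).1 (le_of_eq hP.symm)
  exact isAssociatedPrime_iff.2 ⟨hp, _, le_antisymm (hP.le.trans (Finset.inf_le hg)) hgP⟩

theorem exists_lift_notMem {c : Ideal A} {P' : Ideal (A ⧸ c)} [P'.IsPrime] (s : P'.primeCompl) :
    ∃ a, a ∉ P'.comap (Ideal.Quotient.mk c) ∧ Ideal.Quotient.mk c a = s := by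
  obtain ⟨a, ha⟩ := Ideal.Quotient.mk_surjective (s : A ⧸ c)
  exact ⟨a, fun h => s.2 (show (s : A ⧸ c) ∈ P' by rw [← ha]; exact h), ha⟩

/-- In a zero-dimensional Gorenstein local ring, double annihilators give back the ideal. -/
theorem mem_of_annihilator {T : Type u} [CommRing T] [LocCoh.IsGorensteinLocalRing T]
    (hd : ringKrullDim T = 0) {K : Ideal T} {x : T} (h : ∀ t, (∀ z ∈ K, z * t = 0) → x * t = 0) : x ∈ K := by
  haveI : Ring.KrullDimLE 0 T := Ring.krullDimLE_iff.2 hd.le
  have hm : maximalIdeal T ∈ associatedPrimes T T := by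
    obtain ⟨p, hp⟩ := associatedPrimes.nonempty T T
    haveI := hp.isPrime
    rwa [← IsLocalRing.eq_maximalIdeal (I := p) inferInstance]
  have hinj : Module.Injective T T := GorLib.idlt_one_iff.1 (GorLib.idlt_of_dim_le (d := 0) (by simp [hd]))
  obtain ⟨s, hs0, hs, -⟩ := GorLib.socCyclic_of_injective hinj hm
  by_contra hx
  let J : Ideal T := LinearMap.ker (LinearMap.toSpanSingleton T (T ⧸ K) (Ideal.Quotient.mk K x))
  have hJ : J ≤ maximalIdeal T := by
    refine IsLocalRing.le_maximalIdeal fun hJ => hx ?_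
    have h1 : (1 : T) ∈ J := hJ ▸ trivial
    have h2 : (1 : T) • Ideal.Quotient.mk K x = 0 := h1
    rwa [one_smul, Ideal.Quotient.eq_zero_iff_mem] at h2
  let i : (T ⧸ J) →ₗ[T] (T ⧸ K) := J.liftQ (LinearMap.toSpanSingleton T (T ⧸ K) (Ideal.Quotient.mk K x)) le_rfl
  have hi : Function.Injective i := LinearMap.ker_eq_bot.1 (Submodule.ker_liftQ_eq_bot _ _ _ le_rfl)
  obtain ⟨φ, hφ⟩ := hinj.out i hi (J.liftQ (LinearMap.toSpanSingleton T T s) fun a ha => by
    show a • s = 0
    rw [smul_eq_mul]; exact hs a (hJ ha))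
  have e1 := hφ (Submodule.Quotient.mk 1)
  simp only [i, Submodule.liftQ_apply, LinearMap.toSpanSingleton_apply, one_smul] at e1
  refine hs0 ?_
  rw [← e1, show Ideal.Quotient.mk K x = x • (Ideal.Quotient.mk K 1) by
    rw [Algebra.smul_def, Ideal.Quotient.algebraMap_eq, ← map_mul, mul_one], map_smul, smul_eq_mul]
  refine h _ fun z hz => ?_
  rw [← smul_eq_mul, ← map_smul, Algebra.smul_def, Ideal.Quotient.algebraMap_eq, ← map_mul, mul_one,
    Ideal.Quotient.eq_zero_iff_mem.2 hz, map_zero]

/-- Double colon of an unmixed ideal in a Gorenstein quotient. -/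
theorem colon_colon [IsNoetherianRing A] {c I : Ideal A} (hQ : LocCoh.IsGorensteinRing (A ⧸ c)) (hcI : c ≤ I)
    (hu : ∀ P ∈ associatedPrimes A (A ⧸ I), P ∈ c.minimalPrimes) :
    c.colon ((c.colon (I : Set A) : Ideal A) : Set A) = I := by
  classical
  refine le_antisymm (fun x hx => ?_) (fun i hi => Submodule.mem_colon.2 fun b hb => by
    rw [smul_eq_mul, mul_comm]; exact Submodule.mem_colon.1 hb i hi)
  by_contra hxI
  obtain ⟨P, hP, hPx⟩ := exists_le_isAssociatedPrime_of_isNoetherianRing A (M := A ⧸ I) (Ideal.Quotient.mk I x)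
    (fun h => hxI (Ideal.Quotient.eq_zero_iff_mem.1 h))
  have hmin := hu P hP
  haveI := hmin.1.1
  have hP' := CatLib.map_mem_minimalPrimes hmin
  set P' := P.map (Ideal.Quotient.mk c) with hP'def
  haveI : P'.IsPrime := hP'.1.1
  have hcomap : P'.comap (Ideal.Quotient.mk c) = P := by
    rw [Ideal.comap_map_of_surjective _ Ideal.Quotient.mk_surjective, ← RingHom.ker_eq_comap_bot, Ideal.mk_ker,
      sup_eq_left.2 hmin.1.2]
  let T := Localization.AtPrime P'
  haveI := hQ.isGorensteinLocalRing_localization P'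
  have hd : ringKrullDim T = 0 := by
    rw [IsLocalization.AtPrime.ringKrullDim_eq_height P' T, Ideal.height_eq_zero_iff.2 hP']
    rfl
  let al : A →+* T := (algebraMap (A ⧸ c) T).comp (Ideal.Quotient.mk c)
  have hker : ∀ a, al a = 0 → ∃ u, u ∉ P ∧ u * a ∈ c := by
    intro a ha
    obtain ⟨s, hs⟩ := (IsLocalization.map_eq_zero_iff P'.primeCompl T _).1 ha
    obtain ⟨u, hu1, hu2⟩ := exists_lift_notMem s
    refine ⟨u, hcomap ▸ hu1, ?_⟩
    rw [← Ideal.Quotient.eq_zero_iff_mem, map_mul, hu2]
    exact hs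
  have hunit : ∀ u, u ∉ P → IsUnit (al u) := fun u hu =>
    IsLocalization.map_units T (⟨_, fun h => hu (hcomap ▸ h)⟩ : P'.primeCompl)
  have hx' : al x ∈ I.map al := by
    refine mem_of_annihilator hd fun t ht => ?_
    obtain ⟨⟨b, s⟩, hbs⟩ := IsLocalization.surj P'.primeCompl t
    obtain ⟨b, rfl⟩ := Ideal.Quotient.mk_surjective b
    obtain ⟨G, hG⟩ := IsNoetherian.noetherian I
    have hb : ∀ g ∈ G, ∃ u, u ∉ P ∧ u * (g * b) ∈ c := fun g hg => hker _ (by
      rw [map_mul, show al b = t * algebraMap (A ⧸ c) T s from hbs.symm, ← mul_assoc,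
        ht _ (Ideal.mem_map_of_mem al (hG ▸ Submodule.subset_span hg)), zero_mul])
    choose u hu hub using hb
    let U := ∏ g ∈ G.attach, u g.1 g.2
    have hU : U ∉ P := fun h => by
      obtain ⟨g, -, hg⟩ := Ideal.IsPrime.prod_mem_iff.1 h
      exact hu g.1 g.2 hg
    have hcol : U * b ∈ c.colon (I : Set A) := by
      refine Submodule.mem_colon.2 fun i hi => ?_
      have hle : I ≤ c.colon {U * b} := by
        rw [← hG, Submodule.span_le]
        intro g hg
        show g ∈ c.colon {U * b}
        obtain ⟨v, hv⟩ := Finset.dvd_prod_of_mem (fun g : G => u g.1 g.2) (Finset.mem_attach G ⟨g, hg⟩)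
        rw [Submodule.mem_colon_singleton, smul_eq_mul, show g * (U * b) = v * (u g hg * (g * b)) by
          rw [show U = u g hg * v from hv]; ring]
        exact c.mul_mem_left v (hub g hg)
      have := hle hi
      rw [Submodule.mem_colon_singleton, smul_eq_mul] at this
      rwa [smul_eq_mul, mul_comm]
    have h0 := Submodule.mem_colon.1 hx (U * b) hcol
    rw [smul_eq_mul] at h0
    have h1 : al (x * (U * b)) = 0 := by
      show algebraMap _ T (Ideal.Quotient.mk c _) = 0
      rw [Ideal.Quotient.eq_zero_iff_mem.2 h0, map_zero]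
    rw [map_mul, map_mul, show al b = t * algebraMap (A ⧸ c) T s from hbs.symm] at h1
    have h2 : (x : A) = x := rfl
    have h3 : al U * algebraMap (A ⧸ c) T s * (al x * t) = 0 := by rw [← h1]; ring
    exact (IsUnit.mul_right_eq_zero ((hunit U hU).mul (IsLocalization.map_units T s))).1 h3
  have e : I.map al = (I.map (Ideal.Quotient.mk c)).map (algebraMap (A ⧸ c) T) := (Ideal.map_map _ _).symm
  rw [e] at hx'
  change algebraMap (A ⧸ c) T (Ideal.Quotient.mk c x) ∈ _ at hx'
  rw [IsLocalization.algebraMap_mem_map_algebraMap_iff P'.primeCompl] at hx'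
  obtain ⟨s, hs, hsx⟩ := hx'
  obtain ⟨u, hu1, hu2⟩ := exists_lift_notMem (⟨s, hs⟩ : P'.primeCompl)
  simp only at hu2
  rw [← hu2, ← map_mul, ← Ideal.mem_comap, Ideal.comap_map_of_surjective _ Ideal.Quotient.mk_surjective,
    ← RingHom.ker_eq_comap_bot, Ideal.mk_ker, sup_eq_left.2 hcI] at hsx
  refine hu1 (hcomap.symm ▸ hPx ?_)
  rw [Submodule.mem_colon_singleton, Submodule.mem_bot, Algebra.smul_def, Ideal.Quotient.algebraMap_eq, ← map_mul,
    Ideal.Quotient.eq_zero_iff_mem]
  exact hsx

theorem isLocalization_quotient_atPrime {I M : Ideal A} [M.IsPrime] (h : I ≤ M) :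
    Algebra.algebraMapSubmonoid (A ⧸ I) M.primeCompl =
      (haveI := Ideal.map_isPrime_of_surjective (f := Ideal.Quotient.mk I) Ideal.Quotient.mk_surjective
        (I := M) (by rwa [Ideal.mk_ker]); (M.map (Ideal.Quotient.mk I)).primeCompl) := by
  ext z
  obtain ⟨a, rfl⟩ := Ideal.Quotient.mk_surjective z
  show _ ↔ Ideal.Quotient.mk I a ∉ M.map (Ideal.Quotient.mk I)
  rw [← Ideal.mem_comap, Ideal.comap_map_of_surjective _ Ideal.Quotient.mk_surjective,
    ← RingHom.ker_eq_comap_bot, Ideal.mk_ker, sup_eq_left.2 h]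
  constructor
  · rintro ⟨b, hb, hba⟩ ha
    apply hb
    have h2 : b - a ∈ I := Ideal.Quotient.eq.1 hba
    have := M.add_mem (h h2) ha
    rwa [sub_add_cancel] at this
  · exact fun ha => ⟨a, ha, rfl⟩

/-- Localization commutes with quotients. -/
theorem exists_quot_equiv {I M : Ideal A} [M.IsPrime] (h : I ≤ M) :
    ∃ _ : (M.map (Ideal.Quotient.mk I)).IsPrime, Nonempty
      ((Localization.AtPrime M ⧸ I.map (algebraMap A (Localization.AtPrime M))) ≃+*
        Localization.AtPrime (M.map (Ideal.Quotient.mk I))) := by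
  haveI := Ideal.map_isPrime_of_surjective (f := Ideal.Quotient.mk I) Ideal.Quotient.mk_surjective
    (I := M) (by rwa [Ideal.mk_ker])
  refine ⟨inferInstance, ?_⟩
  haveI : IsLocalization.AtPrime (Localization.AtPrime M ⧸ I.map (algebraMap A (Localization.AtPrime M)))
      (M.map (Ideal.Quotient.mk I)) := by
    show IsLocalization (M.map (Ideal.Quotient.mk I)).primeCompl _
    rw [← isLocalization_quotient_atPrime h]
    infer_instance
  exact ⟨(IsLocalization.algEquiv (M.map (Ideal.Quotient.mk I)).primeCompl _ _).toRingEquiv⟩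

/-- The dimension formula for a Cohen–Macaulay quotient of a regular ring at a prime. -/
theorem ringKrullDim_quotient_map_add_height [IsRegularRing A] {I M P : Ideal A} [M.IsPrime]
    (hI : LocCoh.IsCohenMacaulayRing (A ⧸ I)) (hP : P ∈ I.minimalPrimes) (hPM : P ≤ M) :
    ringKrullDim (Localization.AtPrime M ⧸ I.map (algebraMap A (Localization.AtPrime M))) + (P.height : WithBot ℕ∞) =
      ringKrullDim (Localization.AtPrime M) := by
  let B := Localization.AtPrime M
  haveI : IsNoetherianRing B := IsLocalization.isNoetherianRing M.primeCompl _ inferInstance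
  obtain ⟨hpr, ⟨e⟩⟩ := exists_quot_equiv (M := M) (hP.1.2.trans hPM)
  haveI := hI.isCohenMacaulayLocalRing_localization (M.map (Ideal.Quotient.mk I))
  haveI := SMTLib.isCohenMacaulayLocalRing_of_ringEquiv e.symm
  have hT := SMTLib.isCM_of_isCohenMacaulayLocalRing (B ⧸ I.map (algebraMap A B))
  have hB : IsCM B := isCM_of_isRegularLocalRing B
  haveI := hP.1.1
  have hdisj : Disjoint (M.primeCompl : Set A) P := Set.disjoint_left.2 fun x hx hxP => hx (hPM hxP)
  let PB := P.map (algebraMap A B)
  haveI : PB.IsPrime := IsLocalization.isPrime_of_isPrime_disjoint M.primeCompl _ _ hP.1.1 hdisj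
  have hcomap : PB.comap (algebraMap A B) = P := IsLocalization.comap_map_of_isPrime_disjoint M.primeCompl _ hP.1.1 hdisj
  have hminB : PB ∈ (I.map (algebraMap A B)).minimalPrimes := by
    rw [IsLocalization.minimalPrimes_map M.primeCompl B I, Set.mem_preimage, Ideal.under_def, hcomap]
    exact hP
  have hass := Module.associatedPrimes.minimalPrimes_annihilator_subset_associatedPrimes
    (B ⧸ I.map (algebraMap A B)) (B ⧸ I.map (algebraMap A B))
    (by rw [Module.annihilator_eq_bot.2 inferInstance]; exact CatLib.map_mem_minimalPrimes hminB)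
  rw [← CatLib.ringKrullDim_quotient_of_mem_associatedPrimes hT hass,
    CatLib.ringKrullDim_quotient_quotient_map (Ideal.map_mono hP.1.2),
    ← CatLib.ringKrullDim_quotient_add_height hB PB, ← IsLocalization.height_under M.primeCompl PB]
  show _ = _ + ((PB.comap (algebraMap A B)).height : WithBot ℕ∞)
  rw [hcomap]

/-- All minimal primes of an ideal with Cohen–Macaulay quotient below a given prime have the same height. -/
theorem height_eq_of_le [IsRegularRing A] {I M P Q : Ideal A} [M.IsPrime] (hI : LocCoh.IsCohenMacaulayRing (A ⧸ I))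
    (hP : P ∈ I.minimalPrimes) (hQ : Q ∈ I.minimalPrimes) (hPM : P ≤ M) (hQM : Q ≤ M) : P.height = Q.height := by
  obtain ⟨hpr, ⟨e⟩⟩ := exists_quot_equiv (M := M) (hP.1.2.trans hPM)
  haveI := hI.isCohenMacaulayLocalRing_localization (M.map (Ideal.Quotient.mk I))
  haveI := SMTLib.isCohenMacaulayLocalRing_of_ringEquiv e.symm
  haveI : IsNoetherianRing (Localization.AtPrime M) := IsLocalization.isNoetherianRing M.primeCompl _ inferInstance
  obtain ⟨d, hd⟩ := CommAlgDim.exists_ringKrullDim_eq
    (R := Localization.AtPrime M ⧸ I.map (algebraMap A (Localization.AtPrime M)))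
  have h1 := (ringKrullDim_quotient_map_add_height hI hP hPM).trans (ringKrullDim_quotient_map_add_height hI hQ hQM).symm
  rw [hd] at h1
  have h2 : (d : ℕ∞) + P.height = (d : ℕ∞) + Q.height := WithBot.coe_inj.1 h1
  exact (ENat.add_right_injective_of_ne_top (ENat.natCast_ne_top d)) h2

end LiaisonLib
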