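import Groth.Agent.LiaisonLib.Link
import Groth.Agent.S0342

/-! # Complete intersections and their almost complete intersections -/

set_option autoImplicit false
set_option linter.style.haveILetI false

universe u

open IsLocalRing CommAlgDim

namespace LiaisonLib

variable {A : Type u} [CommRing A] [IsRegularRing A]

theorem ringKrullDim_quotient_le {c : ℕ} {𝔠 M : Ideal A} [M.IsPrime] (h : (c : ℕ∞) ≤ 𝔠.height) (hM : 𝔠 ≤ M) :
    ringKrullDim (Localization.AtPrime M ⧸ 𝔠.map (algebraMap A (Localization.AtPrime M))) + (c : WithBot ℕ∞) ≤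
      ringKrullDim (Localization.AtPrime M) := by
  let B := Localization.AtPrime M
  haveI : IsNoetherianRing B := IsLocalization.isNoetherianRing M.primeCompl _ inferInstance
  let C := B ⧸ 𝔠.map (algebraMap A B)
  have hne : 𝔠.map (algebraMap A B) ≤ maximalIdeal B := by
    rw [← Localization.AtPrime.map_eq_maximalIdeal]; exact Ideal.map_mono hM
  haveI : Nontrivial C := Ideal.Quotient.nontrivial_iff.2 (ne_top_of_le_ne_top (Ideal.IsMaximal.ne_top inferInstance) hne)
  haveI : IsLocalRing C := IsLocalRing.of_surjective' (Ideal.Quotient.mk _) Ideal.Quotient.mk_surjective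
  obtain ⟨P', hP', hdim⟩ := CatLib.exists_minimal_dim (R := C)
  haveI : P'.IsPrime := hP'.1.1
  let P := P'.comap (Ideal.Quotient.mk (𝔠.map (algebraMap A B)))
  haveI : P.IsPrime := Ideal.IsPrime.comap _
  have hcP : 𝔠.map (algebraMap A B) ≤ P := fun x hx => by
    rw [Ideal.mem_comap, Ideal.Quotient.eq_zero_iff_mem.2 hx]; exact P'.zero_mem
  have hPP : P.map (Ideal.Quotient.mk (𝔠.map (algebraMap A B))) = P' :=
    Ideal.map_comap_of_surjective _ Ideal.Quotient.mk_surjective _
  rw [← hdim, ← hPP, CatLib.ringKrullDim_quotient_quotient_map hcP,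
    ← CatLib.ringKrullDim_quotient_add_height (isCM_of_isRegularLocalRing B) P]
  refine add_le_add le_rfl ?_
  rw [← IsLocalization.height_under M.primeCompl P]
  exact_mod_cast h.trans (Ideal.height_mono fun x hx => hcP (Ideal.mem_map_of_mem _ hx))

theorem gorensteinRing_colon {c : ℕ} (g : Fin c → A) (f : A) (𝔠 I : Ideal A) (hg : Ideal.span (Set.range g) = 𝔠)
    (hc : (c : ℕ∞) ≤ 𝔠.height) (hI : LocCoh.IsCohenMacaulayRing (A ⧸ I)) (hIf : I = 𝔠 ⊔ Ideal.span {f})
    (hIh : ∀ P ∈ I.minimalPrimes, P.height = c) :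
    LocCoh.IsGorensteinRing (A ⧸ 𝔠) ∧ LocCoh.IsGorensteinRing (A ⧸ 𝔠.colon (I : Set A)) := by
  haveI : IsNoetherianRing A := inferInstance
  -- the local rings of the complete intersection
  have hT : ∀ (M : Ideal A) [M.IsPrime], 𝔠 ≤ M → LocCoh.IsGorensteinLocalRing
      (Localization.AtPrime M ⧸ 𝔠.map (algebraMap A (Localization.AtPrime M))) ∧
      ringKrullDim (Localization.AtPrime M ⧸ 𝔠.map (algebraMap A (Localization.AtPrime M))) + (c : WithBot ℕ∞) =
        ringKrullDim (Localization.AtPrime M) := by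
    intro M _ hM
    let B := Localization.AtPrime M
    let rs := List.ofFn fun i => algebraMap A B (g i)
    have hrs : Ideal.ofList rs = 𝔠.map (algebraMap A B) := by
      rw [← hg, Ideal.map_span, ← Set.range_comp]
      exact congrArg Ideal.span (Set.ext fun x => by simp [rs, Function.comp, List.mem_ofFn])
    have hlen : rs.length = c := List.length_ofFn
    have hm : ∀ r ∈ rs, r ∈ maximalIdeal B := fun r hr => by
      rw [← Localization.AtPrime.map_eq_maximalIdeal]
      exact Ideal.map_mono hM (hrs ▸ Ideal.subset_span hr)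
    have hreg := isRegular_of_dim (isCM_of_isRegularLocalRing B) hm
      (by rw [hrs, hlen]; exact ringKrullDim_quotient_le hc hM)
    have hd := ringKrullDim_add_length_eq_ringKrullDim_of_isRegular rs hreg
    rw [hrs, hlen] at hd
    exact ⟨GorLib.gorenstein_of_ringEquiv (Ideal.quotEquivOfEq hrs.symm)
      ((GorLib.gorenstein_quotient_ofList_iff _ B rs rfl hreg.toIsWeaklyRegular hm).1 (Groth.Agent.S0342.result B)), hd⟩
  have hloc : ∀ (Z : Ideal A), (∀ (M : Ideal A) [M.IsPrime], Z ≤ M → LocCoh.IsGorensteinLocalRing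
      (Localization.AtPrime M ⧸ Z.map (algebraMap A (Localization.AtPrime M)))) → LocCoh.IsGorensteinRing (A ⧸ Z) := by
    intro Z hZ
    refine ⟨fun P hP => ?_⟩
    let M := P.comap (Ideal.Quotient.mk Z)
    haveI : M.IsPrime := Ideal.IsPrime.comap _
    have hZM : Z ≤ M := fun x hx => by
      rw [Ideal.mem_comap, Ideal.Quotient.eq_zero_iff_mem.2 hx]; exact P.zero_mem
    obtain ⟨hp, ⟨e⟩⟩ := exists_quot_equiv hZM
    have hMP : M.map (Ideal.Quotient.mk Z) = P := Ideal.map_comap_of_surjective _ Ideal.Quotient.mk_surjective _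
    have := GorLib.gorenstein_of_ringEquiv e.symm (hZ M hZM)
    revert this
    generalize hQ : M.map (Ideal.Quotient.mk Z) = Q at hp
    obtain rfl := hQ.symm.trans hMP
    exact id
  refine ⟨hloc 𝔠 fun M _ hM => (hT M hM).1, hloc _ fun M _ hJM => ?_⟩
  have hJ : ∀ a, a ∈ 𝔠.colon (I : Set A) ↔ a * f ∈ 𝔠 := fun a => by
    constructor
    · intro h
      exact Submodule.mem_colon.1 h f (by rw [hIf]; exact le_sup_right (a := 𝔠) (Ideal.mem_span_singleton_self f))
    · intro h
      refine Submodule.mem_colon.2 fun b hb => ?_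
      rw [hIf] at hb
      obtain ⟨y, hy, z, hz, rfl⟩ := Submodule.mem_sup.1 hb
      obtain ⟨w, rfl⟩ := Ideal.mem_span_singleton'.1 hz
      rw [smul_eq_mul, mul_add, show a * (w * f) = w * (a * f) by ring]
      exact add_mem (𝔠.mul_mem_left a hy) (𝔠.mul_mem_left w h)
  have hcM : 𝔠 ≤ M := (le_colon 𝔠 _).trans hJM
  let B := Localization.AtPrime M
  let al := algebraMap A B
  let π := Ideal.Quotient.mk (𝔠.map al)
  let T := B ⧸ 𝔠.map al
  let K : Ideal T := ((𝔠.colon (I : Set A)).map al).map π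
  obtain ⟨hG, hTd⟩ := hT M hcM
  haveI := hG
  have hcJ : 𝔠.map al ≤ (𝔠.colon (I : Set A)).map al := Ideal.map_mono (le_colon 𝔠 _)
  have hK : ∀ a : T, a ∈ K ↔ a * π (al f) = 0 := by
    intro a
    obtain ⟨b, rfl⟩ := Ideal.Quotient.mk_surjective a
    obtain ⟨b, s, rfl⟩ := IsLocalization.exists_mk'_eq M.primeCompl b
    rw [← Ideal.mem_comap, Ideal.comap_map_of_surjective π Ideal.Quotient.mk_surjective, ← RingHom.ker_eq_comap_bot,
      Ideal.mk_ker, sup_eq_left.2 hcJ, ← map_mul π, Ideal.Quotient.eq_zero_iff_mem, IsLocalization.mk'_mem_map_algebraMap_iff,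
      mul_comm (IsLocalization.mk' B b s), IsLocalization.mul_mk'_eq_mk'_of_mul, IsLocalization.mk'_mem_map_algebraMap_iff]
    simp_rw [hJ]
    refine exists_congr fun u => and_congr_right fun _ => ?_
    rw [show u * b * f = u * (f * b) by ring]
  by_cases hf : π (al f) = 0
  · exfalso
    obtain ⟨u, hu, huf⟩ := (IsLocalization.algebraMap_mem_map_algebraMap_iff M.primeCompl B 𝔠 f).1
      (Ideal.Quotient.eq_zero_iff_mem.1 hf)
    exact hu (hJM ((hJ u).2 huf))
  refine GorLib.gorenstein_of_ringEquiv (S := T ⧸ K) (DoubleQuot.quotQuotEquivQuotOfLE hcJ).symm ?_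
  haveI : IsNoetherianRing B := IsLocalization.isNoetherianRing M.primeCompl _ inferInstance
  by_cases hfM : f ∈ M
  swap
  · have hu : IsUnit (π (al f)) := (IsLocalization.map_units B (⟨f, hfM⟩ : M.primeCompl)).map π
    have hK0 : K = ⊥ := eq_bot_iff.2 fun a ha => hu.mul_left_eq_zero.1 ((hK a).1 ha)
    exact GorLib.gorenstein_of_ringEquiv ((Ideal.quotEquivOfEq hK0).trans (RingEquiv.quotientBot T)) hG
  have hIM : I ≤ M := by
    rw [hIf]; exact sup_le hcM ((Ideal.span_singleton_le_iff_mem _).2 hfM)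
  obtain ⟨d, hd⟩ := exists_ringKrullDim_eq (R := T)
  obtain ⟨P, hP, hPM⟩ := Ideal.exists_minimalPrimes_le hIM
  have hId := ringKrullDim_quotient_map_add_height hI hP hPM
  rw [hIh P hP] at hId
  obtain ⟨hp, ⟨e⟩⟩ := exists_quot_equiv hIM
  haveI := hI.isCohenMacaulayLocalRing_localization (M.map (Ideal.Quotient.mk I))
  have hcm := SMTLib.isCohenMacaulayLocalRing_of_ringEquiv e.symm
  have e2 : (T ⧸ Ideal.span {π (al f)}) ≃+* (B ⧸ I.map al) :=
    ((Ideal.quotEquivOfEq (by rw [Ideal.map_span, Set.image_singleton])).trans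
      (DoubleQuot.quotQuotEquivQuotSup (𝔠.map al) (Ideal.span {al f}))).trans
      (Ideal.quotEquivOfEq (by rw [hIf, Ideal.map_sup, Ideal.map_span, Set.image_singleton]))
  obtain ⟨k, hk⟩ := exists_ringKrullDim_eq (R := B ⧸ I.map al)
  have hkd : k = d := by
    have h1 := hId.trans hTd.symm
    rw [hk, hd] at h1
    exact Nat.add_right_cancel (by exact_mod_cast h1)
  exact gorenstein_link d T hd (π (al f)) hf (SMTLib.isCohenMacaulayLocalRing_of_ringEquiv e2.symm)
    (by rw [ringKrullDim_eq_of_ringEquiv e2, hk, hkd]) K hK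

end LiaisonLib
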