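import Groth.Agent.LiaisonLib.Basic
import Groth.Agent.GrSyzLib.Minimal

/-! # Linkage: homogeneous ideals of the polynomial ring -/

set_option autoImplicit false

universe u

namespace LiaisonLib

theorem isHomogeneous_of_minimal {A : Type*} [CommRing A] {τ : Type*} [SetLike τ A] [AddSubgroupClass τ A]
    (𝒜 : ℤ → τ) [GradedRing 𝒜] {I P : Ideal A} (hI : I.IsHomogeneous 𝒜) (hP : P ∈ I.minimalPrimes) :
    P.IsHomogeneous 𝒜 := by
  have h1 : I ≤ (P.homogeneousCore 𝒜).toIdeal := by
    rw [← hI.toIdeal_homogeneousCore_eq_self]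
    exact Ideal.homogeneousCore_mono 𝒜 hP.1.2
  have h2 := P.toIdeal_homogeneousCore_le 𝒜
  rw [le_antisymm (hP.2 ⟨hP.1.1.homogeneousCore, h1⟩ h2) h2]
  exact HomogeneousIdeal.isHomogeneous _

variable {K : Type u} [Field K] {n : ℕ}

local notation "S" => MvPolynomial (Fin (n + 1)) K
local notation "𝔪" => RingHom.ker (MvPolynomial.constantCoeff : MvPolynomial (Fin (n + 1)) K →+* K)

theorem le_ker {P : Ideal S} (hP : P.IsHomogeneous (GrSyz.stdGr K (Fin (n + 1)))) (hne : P ≠ ⊤) : P ≤ 𝔪 := by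
  intro f hf
  have h := hP 0 hf
  rw [GrSyzLib.decompose_zero] at h
  by_contra hc
  exact hne (Ideal.eq_top_of_isUnit_mem P h ((isUnit_iff_ne_zero.2 hc).map MvPolynomial.C))

theorem minimal_le_ker {I P : Ideal S} (hI : I.IsHomogeneous (GrSyz.stdGr K (Fin (n + 1)))) (hP : P ∈ I.minimalPrimes) :
    P ≤ 𝔪 := le_ker (isHomogeneous_of_minimal _ hI hP) hP.1.1.ne_top

/-- A homogeneous ideal with Cohen–Macaulay quotient is equidimensional and unmixed. -/
theorem height_of_mem_associatedPrimes {I P : Ideal S} (hI : I.IsHomogeneous (GrSyz.stdGr K (Fin (n + 1))))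
    (hCM : LocCoh.IsCohenMacaulayRing (S ⧸ I)) (hP : P ∈ associatedPrimes S (S ⧸ I)) : P.height = I.height := by
  have hmin := minimal_of_mem_associatedPrimes hCM hP
  haveI : (𝔪).IsPrime := RingHom.ker_isPrime _
  conv_rhs => rw [Ideal.height_eq_inf_minimalPrimes]
  refine le_antisymm (le_iInf₂ fun Q hQ => (height_eq_of_le hCM hmin hQ (minimal_le_ker hI hmin) (minimal_le_ker hI hQ)).le) ?_
  exact iInf₂_le P hmin

theorem isCohenMacaulayRing_of_gorenstein {T : Type u} [CommRing T] (h : LocCoh.IsGorensteinRing T) :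
    LocCoh.IsCohenMacaulayRing T where
  toIsNoetherian := h.toIsNoetherian
  isCohenMacaulayLocalRing_localization P _ := by
    haveI := h.isGorensteinLocalRing_localization P
    exact SMTLib.isCohenMacaulayLocalRing_of_isCM _ GorLib.isCM_of_gorenstein

theorem le_colon {A : Type u} [CommRing A] (c : Ideal A) (s : Set A) : c ≤ c.colon s := fun x hx =>
  Submodule.mem_colon.2 fun p _ => by rw [smul_eq_mul, mul_comm]; exact c.mul_mem_left p hx

end LiaisonLib
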