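import Groth.Agent.LiaisonLib.Poly
import Mathlib.RingTheory.Ideal.Quotient.Operations

/-! # A Cohen–Macaulay ring modulo a nonzerodivisor -/

set_option autoImplicit false

universe u

open IsLocalRing

namespace LiaisonLib

theorem isCohenMacaulayRing_quotient_of_regular {R : Type u} [CommRing R]
    [hR : LocCoh.IsCohenMacaulayRing R] {y : R} (hy : ∀ a, a * y = 0 → a = 0) :
    LocCoh.IsCohenMacaulayRing (R ⧸ Ideal.span {y}) := by
  have : IsNoetherianRing R := inferInstance
  refine ⟨fun p _ => ?_⟩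
  let π := Ideal.Quotient.mk (Ideal.span {y})
  let q := p.comap π
  let B := Localization.AtPrime q
  have hyq : y ∈ q := by
    show π y ∈ p
    rw [show π y = 0 from Ideal.Quotient.eq_zero_iff_mem.2 (Ideal.subset_span rfl)]
    exact p.zero_mem
  have hB := hR.isCohenMacaulayLocalRing_localization q
  let yB := algebraMap R B y
  have hreg : IsSMulRegular B yB := IsSMulRegular.of_right_eq_zero_of_smul fun x hx => by
    obtain ⟨⟨a, s⟩, has⟩ := IsLocalization.surj q.primeCompl x
    have h1 : algebraMap R B (a * y) = 0 := by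
      rw [map_mul, ← has, mul_right_comm, mul_comm x]
      rw [smul_eq_mul] at hx
      rw [hx, zero_mul]
    obtain ⟨t, ht⟩ := (IsLocalization.map_eq_zero_iff q.primeCompl B _).1 h1
    have h2 : (t : R) * a = 0 := hy _ (by rw [mul_assoc]; exact ht)
    have h3 : algebraMap R B a = 0 := (IsLocalization.map_eq_zero_iff q.primeCompl B _).2 ⟨t, h2⟩
    rw [h3] at has
    exact (IsLocalization.map_units B s).mul_left_eq_zero.1 has
  have hym : yB ∈ maximalIdeal B := (IsLocalization.AtPrime.to_map_mem_maximal_iff B q y).2 hyq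
  have hcm := (SMTLib.isCM_of_isCohenMacaulayLocalRing B).quotient_singleton hreg hym
  let g : R ⧸ Ideal.span {y} →+* B ⧸ Ideal.span {yB} :=
    Ideal.quotientMap _ (algebraMap R B) (by
      rw [Ideal.span_singleton_le_iff_mem, Ideal.mem_comap]; exact Ideal.subset_span rfl)
  letI := g.toAlgebra
  have hmap : q.primeCompl.map π = p.primeCompl := by
    ext x
    constructor
    · rintro ⟨z, hz, rfl⟩; exact hz
    · intro hx
      obtain ⟨z, rfl⟩ := Ideal.Quotient.mk_surjective x
      exact ⟨z, hx, rfl⟩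
  have hloc : IsLocalization p.primeCompl (B ⧸ Ideal.span {yB}) := by
    rw [← hmap]
    refine IsLocalization.of_surjective (S := B) q.primeCompl π Ideal.Quotient.mk_surjective (Ideal.Quotient.mk _)
      Ideal.Quotient.mk_surjective (RingHom.ext fun _ => rfl) ?_
    rw [Ideal.mk_ker, Ideal.mk_ker, Ideal.map_span, Set.image_singleton]
  let e : (B ⧸ Ideal.span {yB}) ≃+* Localization.AtPrime p :=
    (IsLocalization.algEquiv p.primeCompl (B ⧸ Ideal.span {yB}) (Localization.AtPrime p)).toRingEquiv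
  have : IsLocalRing (B ⧸ Ideal.span {yB}) := e.symm.isLocalRing
  have hB' := SMTLib.isCohenMacaulayLocalRing_of_isCM _ hcm
  exact SMTLib.isCohenMacaulayLocalRing_of_ringEquiv e

theorem isCohenMacaulayRing_quotient_sup {A : Type u} [CommRing A] {J : Ideal A} {f : A}
    (hJ : LocCoh.IsCohenMacaulayRing (A ⧸ J)) (hf : J.colon {f} = J) :
    LocCoh.IsCohenMacaulayRing (A ⧸ (J ⊔ Ideal.span {f})) := by
  have hy : ∀ a, a * Ideal.Quotient.mk J f = 0 → a = 0 := fun a ha => by
    obtain ⟨a, rfl⟩ := Ideal.Quotient.mk_surjective a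
    rw [← map_mul, Ideal.Quotient.eq_zero_iff_mem] at ha
    rw [Ideal.Quotient.eq_zero_iff_mem, ← hf, Submodule.mem_colon_singleton, smul_eq_mul]
    exact ha
  haveI := hJ
  have h := isCohenMacaulayRing_quotient_of_regular hy
  refine SMTLib.isCohenMacaulayRing_of_ringEquiv ?_ h
  refine (Ideal.quotEquivOfEq ?_).trans (DoubleQuot.quotQuotEquivQuotSup J (Ideal.span {f}))
  rw [Ideal.map_span, Set.image_singleton]

variable {A : Type u} [CommRing A] [IsNoetherianRing A]

theorem exists_lt_of_minimal_sup {J P : Ideal A} {f : A} (hJ : LocCoh.IsCohenMacaulayRing (A ⧸ J))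
    (hf : J.colon {f} = J) (hP : P.IsPrime) (hJP : J ≤ P) (hfP : f ∈ P) :
    ∃ Q ∈ J.minimalPrimes, Q < P := by
  obtain ⟨Q, hQ, hQP⟩ := Ideal.exists_minimalPrimes_le hJP
  refine ⟨Q, hQ, lt_of_le_of_ne hQP fun e => ?_⟩
  subst e
  obtain ⟨hQp, x, hx⟩ := isAssociatedPrime_iff.1 (mem_associatedPrimes_of_minimal hQ)
  obtain ⟨a, rfl⟩ := Ideal.Quotient.mk_surjective x
  have key : ∀ r, r ∈ Q ↔ r * a ∈ J := fun r => by
    rw [hx, Submodule.mem_colon_singleton, Submodule.mem_bot]
    show Ideal.Quotient.mk J (r * a) = 0 ↔ _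
    rw [Ideal.Quotient.eq_zero_iff_mem]
  have h1 : a ∈ J := by
    rw [← hf, Submodule.mem_colon_singleton, smul_eq_mul, mul_comm]
    exact (key f).1 hfP
  exact hQp.ne_top ((Ideal.eq_top_iff_one _).2 ((key 1).2 (by rwa [one_mul])))

end LiaisonLib
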