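import Groth.Agent.LiaisonLib.Poly
import Groth.Agent.GradedHilbLib.LinearSections

/-! # Lengths of linked ideals at the components -/

set_option autoImplicit false
set_option linter.style.haveILetI false

universe u

open IsLocalRing

namespace LiaisonLib

section

variable {A : Type u} [CommRing A]

theorem length_localizedModule_quotient (q I : Ideal A) [q.IsPrime] :
    Module.length (Localization.AtPrime q) (LocalizedModule q.primeCompl (A ⧸ I)) =
      Module.length (Localization.AtPrime q) (Localization.AtPrime q ⧸ I.map (algebraMap A (Localization.AtPrime q))) := by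
  let L := Localization.AtPrime q
  have hI : Submodule.localized' L q.primeCompl (Algebra.linearMap A L) I = I.map (algebraMap A L) :=
    Ideal.localized'_eq_map L q.primeCompl I
  let g := Submodule.toLocalizedQuotient' L q.primeCompl (Algebra.linearMap A L) I
  rw [((IsLocalizedModule.iso q.primeCompl g).extendScalarsOfIsLocalization q.primeCompl L).length_eq]
  exact (Submodule.quotEquivOfEq _ _ hI).length_eq

theorem map_colon [IsNoetherianRing A] (q c I : Ideal A) [q.IsPrime] :
    (c.colon (I : Set A)).map (algebraMap A (Localization.AtPrime q)) =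
      (c.map (algebraMap A (Localization.AtPrime q))).colon
        ((I.map (algebraMap A (Localization.AtPrime q)) : Ideal (Localization.AtPrime q)) : Set (Localization.AtPrime q)) := by
  classical
  let L := Localization.AtPrime q
  refine le_antisymm (Ideal.map_le_iff_le_comap.2 fun a ha => Submodule.mem_colon.2 fun z hz => ?_) fun z hz => ?_
  · rw [smul_eq_mul]
    induction hz using Submodule.span_induction with
    | mem w hw =>
      obtain ⟨i, hi, rfl⟩ := hw
      rw [← map_mul]
      exact Ideal.mem_map_of_mem _ (Submodule.mem_colon.1 ha i hi)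
    | zero => simp
    | add u v _ _ hu hv => rw [mul_add]; exact add_mem hu hv
    | smul r u _ hu =>
      rw [smul_eq_mul, mul_left_comm]
      exact Ideal.mul_mem_left _ r hu
  · obtain ⟨⟨a, s⟩, has⟩ := IsLocalization.surj q.primeCompl z
    obtain ⟨G, hG⟩ := IsNoetherian.noetherian I
    have hb : ∀ g ∈ G, ∃ u ∈ q.primeCompl, u * (a * g) ∈ c := fun g hg => by
      rw [← IsLocalization.algebraMap_mem_map_algebraMap_iff q.primeCompl L, map_mul, ← has]
      have := Submodule.mem_colon.1 hz (algebraMap A L g)
        (Ideal.mem_map_of_mem _ (hG ▸ Submodule.subset_span hg))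
      rw [smul_eq_mul] at this
      rw [mul_right_comm]
      exact Ideal.mul_mem_right _ _ this
    choose u hu hub using hb
    let U := ∏ g ∈ G.attach, u g.1 g.2
    have hU : U ∈ q.primeCompl := prod_mem fun g _ => hu g.1 g.2
    have hJ : U * a ∈ c.colon (I : Set A) := by
      refine Submodule.mem_colon.2 fun i hi => ?_
      rw [smul_eq_mul]
      have hle : I ≤ c.colon {U * a} := by
        rw [← hG, Submodule.span_le]
        intro g hg
        show g ∈ c.colon {U * a}
        obtain ⟨v, hv⟩ := Finset.dvd_prod_of_mem (fun g : G => u g.1 g.2) (Finset.mem_attach G ⟨g, hg⟩)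
        rw [Submodule.mem_colon_singleton, smul_eq_mul, show g * (U * a) = v * (u g hg * (a * g)) by
          rw [show U = u g hg * v from hv]; ring]
        exact c.mul_mem_left v (hub g hg)
      have := hle hi
      rw [Submodule.mem_colon_singleton, smul_eq_mul] at this
      rwa [mul_comm]
    have h1 : algebraMap A L U * algebraMap A L s * z ∈ (c.colon (I : Set A)).map (algebraMap A L) := by
      rw [show algebraMap A L U * algebraMap A L s * z = algebraMap A L (U * a) by rw [map_mul, ← has]; ring]
      exact Ideal.mem_map_of_mem _ hJ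
    exact (Ideal.unit_mul_mem_iff_mem _
      ((IsLocalization.map_units L ⟨U, hU⟩).mul (IsLocalization.map_units L s))).1 h1

/-- Duality in a zero-dimensional Gorenstein local ring. -/
theorem length_quotient_add_annihilator {T : Type u} [CommRing T] [LocCoh.IsGorensteinLocalRing T]
    (hd : ringKrullDim T = 0) (K : Ideal T) :
    Module.length T (T ⧸ K) + Module.length T (T ⧸ (⊥ : Ideal T).colon (K : Set T)) = Module.length T T := by
  let ann : Ideal T → Ideal T := fun N => (⊥ : Ideal T).colon (N : Set T)
  have anti : ∀ {N M : Ideal T}, N ≤ M → ann M ≤ ann N := fun h => Submodule.colon_mono le_rfl h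
  have hmem : ∀ {N : Ideal T} {x : T}, x ∈ ann N ↔ ∀ z ∈ N, x * z = 0 := fun {N x} => by
    simp only [ann, Submodule.mem_colon, SetLike.mem_coe, smul_eq_mul, Ideal.mem_bot]
  have hh : ∀ N, ann (ann N) = N := fun N => le_antisymm
    (fun x hx => mem_of_annihilator hd fun t ht => hmem.1 hx t (hmem.2 fun z hz => by rw [mul_comm]; exact ht z hz))
    (fun x hx => hmem.2 fun z hz => by rw [mul_comm]; exact hmem.1 hz x hx)
  let e1 : Submodule T ↥K ≃o Set.Iic K := Submodule.MapSubtype.orderIso K
  let e2 : Submodule T (T ⧸ ann K) ≃o Set.Ici (ann K) := Submodule.comapMkQRelIso (ann K)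
  let e3 : Set.Iic K ≃o (Set.Ici (ann K))ᵒᵈ :=
    { toFun := fun N => OrderDual.toDual ⟨ann N.1, anti N.2⟩
      invFun := fun M => ⟨ann (OrderDual.ofDual M).1, (anti (OrderDual.ofDual M).2).trans (hh K).le⟩
      left_inv := fun N => Subtype.ext (hh N.1)
      right_inv := fun M => by
        obtain ⟨M, rfl⟩ := OrderDual.toDual.surjective M
        exact congrArg OrderDual.toDual (Subtype.ext (hh M.1))
      map_rel_iff' := by
        intro N M
        exact ⟨fun h => (hh N.1).symm.le.trans ((anti h).trans (hh M.1).le), fun h => anti h⟩ }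
  have hlen : Module.length T ↥K = Module.length T (T ⧸ ann K) := by
    apply WithBot.coe_injective
    rw [Module.coe_length, Module.coe_length, Order.krullDim_eq_of_orderIso (e1.trans e3),
      Order.krullDim_orderDual, Order.krullDim_eq_of_orderIso e2.symm]
  rw [Module.length_eq_add_of_exact K.subtype K.mkQ K.injective_subtype K.mkQ_surjective
    (LinearMap.exact_subtype_mkQ K), hlen, add_comm]

theorem length_add_colon [IsNoetherianRing A] {q c I : Ideal A} [q.IsPrime] (hQ : LocCoh.IsGorensteinRing (A ⧸ c))
    (hq : q ∈ c.minimalPrimes) (hcI : c ≤ I) :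
    Module.length (Localization.AtPrime q) (LocalizedModule q.primeCompl (A ⧸ I)) +
      Module.length (Localization.AtPrime q) (LocalizedModule q.primeCompl (A ⧸ c.colon (I : Set A))) =
      Module.length (Localization.AtPrime q) (LocalizedModule q.primeCompl (A ⧸ c)) := by
  simp only [length_localizedModule_quotient]
  rw [map_colon]
  set L := Localization.AtPrime q
  set C := c.map (algebraMap A L)
  set I' := I.map (algebraMap A L)
  obtain ⟨hp, ⟨e⟩⟩ := exists_quot_equiv (I := c) (M := q) hq.1.2
  haveI : LocCoh.IsGorensteinLocalRing (L ⧸ C) := by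
    haveI := hQ.isGorensteinLocalRing_localization (q.map (Ideal.Quotient.mk c))
    exact GorLib.gorenstein_of_ringEquiv e inferInstance
  have hd : ringKrullDim (L ⧸ C) = 0 := by
    rw [ringKrullDim_eq_of_ringEquiv e, IsLocalization.AtPrime.ringKrullDim_eq_height (q.map (Ideal.Quotient.mk c)),
      Ideal.height_eq_zero_iff.2 (CatLib.map_mem_minimalPrimes hq)]
    rfl
  have hCI : C ≤ I' := Ideal.map_mono hcI
  have hCJ : C ≤ C.colon (I' : Set L) := le_colon C _
  have key := length_quotient_add_annihilator hd (I'.map (Ideal.Quotient.mk C))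
  have hJ : (⊥ : Ideal (L ⧸ C)).colon ((I'.map (Ideal.Quotient.mk C) : Ideal (L ⧸ C)) : Set (L ⧸ C)) =
      (C.colon (I' : Set L)).map (Ideal.Quotient.mk C) := by
    ext x
    obtain ⟨x, rfl⟩ := Ideal.Quotient.mk_surjective x
    rw [← Ideal.mem_comap, ← Ideal.mem_comap (f := Ideal.Quotient.mk C) (K := Ideal.map _ _),
      Ideal.comap_map_of_surjective _ Ideal.Quotient.mk_surjective, ← RingHom.ker_eq_comap_bot, Ideal.mk_ker,
      sup_eq_left.2 hCJ, Ideal.mem_comap, Submodule.mem_colon, Submodule.mem_colon]
    constructor
    · intro h i hi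
      have := h _ (Ideal.mem_map_of_mem _ hi)
      rwa [smul_eq_mul, ← map_mul, Ideal.mem_bot, Ideal.Quotient.eq_zero_iff_mem] at this
    · intro h z hz
      obtain ⟨i, hi, rfl⟩ := (Ideal.mem_map_iff_of_surjective _ Ideal.Quotient.mk_surjective).1 hz
      rw [smul_eq_mul, ← map_mul, Ideal.mem_bot, Ideal.Quotient.eq_zero_iff_mem]
      exact h i hi
  rw [hJ] at key
  have hsurj : Function.Surjective (algebraMap L (L ⧸ C)) := Ideal.Quotient.mk_surjective
  have conv : ∀ K : Ideal L, C ≤ K →
      Module.length (L ⧸ C) ((L ⧸ C) ⧸ K.map (Ideal.Quotient.mk C)) = Module.length L (L ⧸ K) := fun K hK => by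
    rw [← Module.length_eq_of_surjective (R := L ⧸ C) (M := (L ⧸ C) ⧸ K.map (Ideal.Quotient.mk C)) hsurj]
    exact ((DoubleQuot.quotQuotEquivQuotOfLEₐ L hK).toLinearEquiv).length_eq
  rw [conv I' hCI, conv _ hCJ, ← Module.length_eq_of_surjective (R := L ⧸ C) (M := L ⧸ C) hsurj] at key
  exact key

end

end LiaisonLib
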