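import Groth.Agent.LiaisonLib.CMQuot

/-! # Basic double links -/

set_option autoImplicit false

universe u

namespace LiaisonLib

variable {A : Type u} [CommRing A]

theorem doubleLink_ass {J I : Ideal A} {f : A} (hJI : J ≤ I) (hf : J.colon {f} = J) :
    associatedPrimes A (A ⧸ I) ⊆ associatedPrimes A (A ⧸ (J ⊔ Ideal.span {f} * I)) ∧
      associatedPrimes A (A ⧸ (J ⊔ Ideal.span {f} * I)) ⊆
        associatedPrimes A (A ⧸ I) ∪ associatedPrimes A (A ⧸ (J ⊔ Ideal.span {f})) := by
  let μ : (A ⧸ I) →ₗ[A] A ⧸ (J ⊔ Ideal.span {f} * I) := Submodule.mapQ I (J ⊔ Ideal.span {f} * I) (LinearMap.mulLeft A f)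
    (fun i hi => le_sup_right (a := J) (Ideal.mul_mem_mul (Ideal.mem_span_singleton_self f) hi))
  have hle : J ⊔ Ideal.span {f} * I ≤ J ⊔ Ideal.span {f} := sup_le_sup_left Ideal.mul_le_left _
  let π : (A ⧸ (J ⊔ Ideal.span {f} * I)) →ₗ[A] A ⧸ (J ⊔ Ideal.span {f}) := Submodule.factor hle
  have hμ : Function.Injective μ := by
    rw [injective_iff_map_eq_zero]
    intro x hx
    obtain ⟨a, rfl⟩ := Submodule.Quotient.mk_surjective _ x
    rw [Submodule.mapQ_apply, Submodule.Quotient.mk_eq_zero] at hx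
    obtain ⟨j, hj, z, hz, hjz⟩ := Submodule.mem_sup.1 hx
    obtain ⟨i, hi, rfl⟩ := Ideal.mem_span_singleton_mul.1 hz
    rw [Submodule.Quotient.mk_eq_zero]
    have h1 : a - i ∈ J := by
      rw [← hf, Submodule.mem_colon_singleton, smul_eq_mul]
      have : (a - i) * f = j := by
        simp only [LinearMap.mulLeft_apply] at hjz
        rw [sub_mul, mul_comm a, ← hjz]; ring
      rw [this]; exact hj
    have := add_mem (hJI h1) hi
    rwa [sub_add_cancel] at this
  have hex : Function.Exact μ π := by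
    intro y
    obtain ⟨a, rfl⟩ := Submodule.Quotient.mk_surjective _ y
    constructor
    · intro h
      rw [show π (Submodule.Quotient.mk a) = Submodule.Quotient.mk a from rfl, Submodule.Quotient.mk_eq_zero] at h
      obtain ⟨j, hj, z, hz, hjz⟩ := Submodule.mem_sup.1 h
      obtain ⟨b, rfl⟩ := Ideal.mem_span_singleton'.1 hz
      refine ⟨Submodule.Quotient.mk b, ?_⟩
      rw [Submodule.mapQ_apply, Submodule.Quotient.eq, LinearMap.mulLeft_apply]
      refine le_sup_left (b := Ideal.span {f} * I) ?_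
      rw [show f * b - a = -j by rw [← hjz]; ring]
      exact neg_mem hj
    · rintro ⟨x, hx⟩
      obtain ⟨b, rfl⟩ := Submodule.Quotient.mk_surjective _ x
      rw [← hx, Submodule.mapQ_apply, show ∀ y, π (Submodule.Quotient.mk y) = Submodule.Quotient.mk y from fun _ => rfl, Submodule.Quotient.mk_eq_zero, LinearMap.mulLeft_apply]
      exact le_sup_right (a := J) (Ideal.mul_mem_right _ _ (Ideal.mem_span_singleton_self f))
  exact ⟨associatedPrimes.subset_of_injective hμ, associatedPrimes.subset_union_of_exact hμ hex⟩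

theorem height_of_mem_ass_sup [IsDomain A] [IsNoetherianRing A] {J P : Ideal A} {f : A} {h : ℕ}
    (hA : CAlg.IsCatenary A) (hJ : LocCoh.IsCohenMacaulayRing (A ⧸ J)) (hf : J.colon {f} = J)
    (hh : ∀ Q ∈ J.minimalPrimes, Q.height = h) (hP : P ∈ associatedPrimes A (A ⧸ (J ⊔ Ideal.span {f}))) :
    P.height = h + 1 := by
  have hmin := minimal_of_mem_associatedPrimes (isCohenMacaulayRing_quotient_sup hJ hf) hP
  haveI := hmin.1.1
  have hJP : J ≤ P := le_sup_left.trans hmin.1.2
  have hfP : f ∈ P := hmin.1.2 (le_sup_right (a := J) (Ideal.mem_span_singleton_self f))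
  obtain ⟨Q, hQ, hQP⟩ := exists_lt_of_minimal_sup hJ hf hmin.1.1 hJP hfP
  haveI := hQ.1.1
  let π := Ideal.Quotient.mk J
  have hcm : ∀ R : Ideal A, J ≤ R → (R.map π).comap π = R := fun R hR => by
    rw [Ideal.comap_map_of_surjective _ Ideal.Quotient.mk_surjective, ← RingHom.ker_eq_comap_bot, Ideal.mk_ker,
      sup_eq_left.2 hR]
  haveI : (P.map π).IsPrime := Ideal.map_isPrime_of_surjective Ideal.Quotient.mk_surjective (by rwa [Ideal.mk_ker])
  have hP' : P.map π ∈ (Ideal.span {π f}).minimalPrimes := by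
    refine ⟨⟨inferInstance, ?_⟩, fun R hR hRP => ?_⟩
    · rw [Ideal.span_singleton_le_iff_mem]; exact Ideal.mem_map_of_mem π hfP
    · haveI := hR.1
      have hJR : J ≤ R.comap π := fun x hx => by
        rw [Ideal.mem_comap, show π x = 0 from Ideal.Quotient.eq_zero_iff_mem.2 hx]; exact R.zero_mem
      have h1 : P ≤ R.comap π := hmin.2 ⟨Ideal.IsPrime.comap π, sup_le hJR ((Ideal.span_singleton_le_iff_mem _).2
        (Ideal.mem_comap.2 (hR.2 (Ideal.mem_span_singleton_self _))))⟩ (by
          rw [← hcm P hJP]; exact Ideal.comap_mono hRP)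
      rw [← Ideal.map_comap_of_surjective π Ideal.Quotient.mk_surjective R]
      exact Ideal.map_mono h1
  have hle := Ideal.height_le_one_of_isPrincipal_of_mem_minimalPrimes _ _ hP'
  have hcov : (⟨Q, inferInstance⟩ : PrimeSpectrum A) ⋖ ⟨P, inferInstance⟩ := by
    refine ⟨hQP, fun R hQR hRP => ?_⟩
    have hQR' : Q < R.asIdeal := hQR
    have hRP' : R.asIdeal < P := hRP
    haveI := R.2
    haveI : (Q.map π).IsPrime := Ideal.map_isPrime_of_surjective Ideal.Quotient.mk_surjective (by rw [Ideal.mk_ker]; exact hQ.1.2)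
    haveI : (R.asIdeal.map π).IsPrime :=
      Ideal.map_isPrime_of_surjective Ideal.Quotient.mk_surjective (by rw [Ideal.mk_ker]; exact hQ.1.2.trans hQR'.le)
    have l1 : Q.map π < R.asIdeal.map π := lt_of_le_of_ne (Ideal.map_mono hQR'.le) fun e => hQR'.ne (by
      rw [← hcm Q hQ.1.2, e, hcm _ (hQ.1.2.trans hQR'.le)])
    have l2 : R.asIdeal.map π < P.map π := lt_of_le_of_ne (Ideal.map_mono hRP'.le) fun e => hRP'.ne (by
      rw [← hcm P hJP, ← e, hcm _ (hQ.1.2.trans hQR'.le)])
    have s2 : (R.asIdeal.map π).height < (1 : ℕ∞) :=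
      lt_of_lt_of_le (Ideal.height_strict_mono_of_isPrime l2) hle
    have s1 := Ideal.height_strict_mono_of_isPrime l1
    rw [ENat.lt_one_iff_eq_zero] at s2
    rw [s2] at s1
    exact not_lt_bot s1
  have := CatLib.isCatenary_height_covBy hA hcov
  rw [this, hh Q hQ]

end LiaisonLib
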