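import Groth.Agent.LiaisonLib.Double

/-! # Linked to an almost complete intersection is Gorenstein -/

set_option autoImplicit false
set_option linter.style.haveILetI false

universe u

open IsLocalRing CommAlgDim

namespace LiaisonLib

theorem socCyclic_link {T : Type u} [CommRing T] [IsLocalRing T] [IsArtinianRing T] (h : GorLib.SocCyclic T)
    {f : T} (hf : f ≠ 0) {K : Ideal T} (hK : ∀ a, a ∈ K ↔ a * f = 0) [IsLocalRing (T ⧸ K)] : GorLib.SocCyclic (T ⧸ K) := by
  obtain ⟨s, hs0, hs, hgen⟩ := h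
  haveI : Nontrivial (Ideal.span ({f} : Set T)) :=
    ⟨⟨⟨f, Ideal.mem_span_singleton_self f⟩, 0, fun e => hf (congrArg Subtype.val e)⟩⟩
  obtain ⟨p, hp⟩ := associatedPrimes.nonempty T (Ideal.span ({f} : Set T))
  obtain ⟨hpp, ⟨z, hz⟩, hzp⟩ := isAssociatedPrime_iff.1 hp
  haveI := hpp
  have hpm : p = maximalIdeal T := IsLocalRing.eq_maximalIdeal inferInstance
  have hz0 : z ≠ 0 := by
    rintro rfl
    refine hpp.ne_top ((Ideal.eq_top_iff_one _).2 ?_)
    rw [hzp, Submodule.mem_colon_singleton, Submodule.mem_bot, one_smul]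
    rfl
  have hzs : z ∈ Ideal.span {s} := hgen z fun a ha => by
    rw [← hpm, hzp, Submodule.mem_colon_singleton, Submodule.mem_bot] at ha
    exact congrArg Subtype.val ha
  obtain ⟨r, hr⟩ := Ideal.mem_span_singleton'.1 hzs
  have hru : IsUnit r := by
    by_contra hn
    exact hz0 (hr ▸ hs r ((mem_maximalIdeal r).2 hn))
  obtain ⟨v, hv⟩ := Ideal.mem_span_singleton'.1 hz
  obtain ⟨r, rfl⟩ := hru
  set w := (↑r⁻¹ : T) * v with hw
  have hwf : w * f = s := by rw [hw, mul_assoc, hv, ← hr, ← mul_assoc, Units.inv_mul, one_mul]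
  have hmax : ∀ a, a ∈ maximalIdeal T → Ideal.Quotient.mk K a ∈ maximalIdeal (T ⧸ K) := fun a ha => by
    rw [← IsLocalRing.map_maximalIdeal_of_surjective (Ideal.Quotient.mk K) Ideal.Quotient.mk_surjective]
    exact Ideal.mem_map_of_mem _ ha
  refine ⟨Ideal.Quotient.mk K w, fun h0 => hs0 ?_, fun a ha => ?_, fun y hy => ?_⟩
  · rw [← hwf]
    exact (hK w).1 (Ideal.Quotient.eq_zero_iff_mem.1 h0)
  · obtain ⟨a, rfl⟩ := Ideal.Quotient.mk_surjective a
    have ha' : a ∈ maximalIdeal T := by
      rw [mem_maximalIdeal, mem_nonunits_iff] at ha ⊢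
      exact fun hu => ha (hu.map _)
    rw [← map_mul, Ideal.Quotient.eq_zero_iff_mem, hK, mul_assoc, hwf]
    exact hs a ha'
  · obtain ⟨y, rfl⟩ := Ideal.Quotient.mk_surjective y
    obtain ⟨t, ht⟩ := Ideal.mem_span_singleton'.1 (hgen (y * f) fun a ha => by
      have := hy _ (hmax a ha)
      rw [← map_mul, Ideal.Quotient.eq_zero_iff_mem, hK] at this
      rw [← mul_assoc]; exact this)
    refine Ideal.mem_span_singleton'.2 ⟨Ideal.Quotient.mk K t, ?_⟩
    rw [← map_mul, Ideal.Quotient.eq, hK, sub_mul, mul_assoc, hwf, ht, sub_self]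

/-- If `T` is Gorenstein and `T/(f)` is maximal Cohen–Macaulay, `T/(0 : f)` is Gorenstein. -/
theorem gorenstein_link : ∀ (d : ℕ) (T : Type u) [CommRing T] [LocCoh.IsGorensteinLocalRing T]
    (_ : ringKrullDim T = d) (f : T) (_ : f ≠ 0) (_ : LocCoh.IsCohenMacaulayLocalRing (T ⧸ Ideal.span {f}))
    (_ : ringKrullDim (T ⧸ Ideal.span {f}) = d) (K : Ideal T), (∀ a, a ∈ K ↔ a * f = 0) →
    LocCoh.IsGorensteinLocalRing (T ⧸ K) := by
  intro d
  induction d with
  | zero =>
    intro T _ _ hd f hf _ _ K hK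
    haveI : Ring.KrullDimLE 0 T := Ring.krullDimLE_iff.2 (by rw [hd])
    haveI : IsArtinianRing T := by
      rw [isArtinianRing_iff_isNoetherianRing_krullDimLE_zero]; exact ⟨inferInstance, inferInstance⟩
    haveI : Nontrivial (T ⧸ K) := Ideal.Quotient.nontrivial_iff.2 fun e => hf (by
      have := (hK 1).1 (e ▸ Submodule.mem_top)
      rwa [one_mul] at this)
    haveI : IsLocalRing (T ⧸ K) := IsLocalRing.of_surjective' (Ideal.Quotient.mk K) Ideal.Quotient.mk_surjective
    exact GorLib.gorenstein_iff_socCyclic.2 (socCyclic_link (GorLib.gorenstein_iff_socCyclic.1 inferInstance) hf hK)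
  | succ d ih =>
    intro T _ _ hd f hf hcm hfd K hK
    obtain ⟨rs, hrs, hlen⟩ := GorLib.isCM_of_gorenstein (R := T)
    rw [hd] at hlen
    have hlen' : rs.length = d + 1 := by exact_mod_cast hlen.symm
    obtain ⟨x, rs, rfl⟩ := List.exists_cons_of_length_eq_add_one hlen'
    have hxm : x ∈ maximalIdeal T := mem_maximalIdeal_of_isRegular hrs x (List.mem_cons_self ..)
    have hx : IsSMulRegular T x := ((RingTheory.Sequence.isWeaklyRegular_cons_iff _ _ _).1 hrs.toIsWeaklyRegular).1
    have hxM : IsSMulRegular (T ⧸ Ideal.span {f}) x :=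
      GorLib.isSMulRegular_of_mcm hd (GorLib.hasSeqIn_of_cm _ hfd) hxm hx
    have hmk : ∀ {I : Ideal T} {a : T}, IsSMulRegular (T ⧸ I) x → x * a ∈ I → a ∈ I := fun {I a} hr ha => by
      rw [← Ideal.Quotient.eq_zero_iff_mem] at ha ⊢
      refine hr.right_eq_zero_of_smul ?_
      show Ideal.Quotient.mk I (x * a) = 0
      exact ha
    let T' := T ⧸ Ideal.span {x}
    let π : T →+* T' := Ideal.Quotient.mk _
    haveI : Nontrivial T' := Ideal.Quotient.nontrivial_iff.2
      (ne_top_of_le_ne_top (Ideal.IsMaximal.ne_top inferInstance) ((Ideal.span_singleton_le_iff_mem _).2 hxm))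
    haveI : IsLocalRing T' := IsLocalRing.of_surjective' π Ideal.Quotient.mk_surjective
    haveI : LocCoh.IsGorensteinLocalRing T' := (GorLib.gorenstein_quotient_iff hx hxm).1 inferInstance
    have hdim' : ringKrullDim T' = d := by
      have h1 := ringKrullDim_quotient_span_singleton_succ_eq_ringKrullDim hx hxm
      obtain ⟨e, he⟩ := exists_ringKrullDim_eq (R := T')
      rw [he, hd] at h1
      have : e = d := by exact Nat.succ_injective (by exact_mod_cast h1)
      rw [he, this]
    have hKtop : K ≠ ⊤ := fun e => hf (by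
      have := (hK 1).1 (e ▸ Submodule.mem_top)
      rwa [one_mul] at this)
    have hK' : ∀ a : T', a ∈ K.map π ↔ a * π f = 0 := by
      intro a
      obtain ⟨a, rfl⟩ := Ideal.Quotient.mk_surjective a
      rw [← Ideal.mem_comap, Ideal.comap_map_of_surjective π Ideal.Quotient.mk_surjective, ← RingHom.ker_eq_comap_bot,
        Ideal.mk_ker, ← map_mul, Ideal.Quotient.eq_zero_iff_mem]
      constructor
      · intro h
        obtain ⟨k, hk, y, hy, rfl⟩ := Submodule.mem_sup.1 h
        rw [add_mul, (hK k).1 hk, zero_add]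
        exact Ideal.mul_mem_right _ _ hy
      · intro h
        obtain ⟨z, hz⟩ := Ideal.mem_span_singleton'.1 h
        have hzf : x * z ∈ Ideal.span {f} := by
          rw [mul_comm, hz]; exact Ideal.mem_span_singleton'.2 ⟨a, rfl⟩
        obtain ⟨w, hw⟩ := Ideal.mem_span_singleton'.1 (hmk hxM hzf)
        refine Submodule.mem_sup.2 ⟨a - x * w, (hK _).2 ?_, x * w, ?_, sub_add_cancel _ _⟩
        · rw [sub_mul, mul_assoc, hw, mul_comm x z, hz, sub_self]
        · exact Ideal.mem_span_singleton'.2 ⟨w, mul_comm _ _⟩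
    have hf' : π f ≠ 0 := fun e => hKtop (by
      have h1 : (1 : T') ∈ K.map π := (hK' 1).2 (by rw [one_mul, e])
      rw [← map_one π, ← Ideal.mem_comap, Ideal.comap_map_of_surjective π Ideal.Quotient.mk_surjective,
        ← RingHom.ker_eq_comap_bot, Ideal.mk_ker, Submodule.mem_sup] at h1
      obtain ⟨k, hk, y, hy, hky⟩ := h1
      obtain ⟨c, rfl⟩ := Ideal.mem_span_singleton'.1 hy
      have hu : IsUnit k := by
        by_contra hn
        refine (IsLocalRing.maximalIdeal.isMaximal T).ne_top ((Ideal.eq_top_iff_one _).2 ?_)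
        rw [← hky]
        exact add_mem ((mem_maximalIdeal k).2 hn) (Ideal.mul_mem_left _ _ hxm)
      exact Ideal.eq_top_of_isUnit_mem _ hk hu)
    -- the quotient by `f` stays Cohen–Macaulay
    let F := T ⧸ Ideal.span {f}
    haveI : IsLocalRing F := hcm.toIsLocalRing
    have hxF : Ideal.Quotient.mk (Ideal.span {f}) x ∈ maximalIdeal F := by
      rw [← IsLocalRing.map_maximalIdeal_of_surjective (Ideal.Quotient.mk (Ideal.span {f})) Ideal.Quotient.mk_surjective]
      exact Ideal.mem_map_of_mem _ hxm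
    have hxFr : IsSMulRegular F (Ideal.Quotient.mk (Ideal.span {f}) x) := fun a b h => hxM (by
      obtain ⟨a, rfl⟩ := Ideal.Quotient.mk_surjective a
      obtain ⟨b, rfl⟩ := Ideal.Quotient.mk_surjective b
      show Ideal.Quotient.mk _ (x * a) = Ideal.Quotient.mk _ (x * b)
      rw [map_mul, map_mul]; exact h)
    have hF := (SMTLib.isCM_of_isCohenMacaulayLocalRing F).quotient_singleton hxFr hxF
    have e : (F ⧸ Ideal.span {Ideal.Quotient.mk (Ideal.span {f}) x}) ≃+* (T' ⧸ Ideal.span {π f}) :=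
      ((Ideal.quotEquivOfEq (by rw [Ideal.map_span, Set.image_singleton])).trans
        (DoubleQuot.quotQuotEquivComm (Ideal.span {f}) (Ideal.span {x}))).trans
        (Ideal.quotEquivOfEq (by rw [Ideal.map_span, Set.image_singleton]))
    haveI : IsLocalRing (F ⧸ Ideal.span {Ideal.Quotient.mk (Ideal.span {f}) x}) :=
      haveI : Nontrivial (F ⧸ Ideal.span {Ideal.Quotient.mk (Ideal.span {f}) x}) := Ideal.Quotient.nontrivial_iff.2
        (ne_top_of_le_ne_top (Ideal.IsMaximal.ne_top inferInstance) ((Ideal.span_singleton_le_iff_mem _).2 hxF))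
      IsLocalRing.of_surjective' (Ideal.Quotient.mk _) Ideal.Quotient.mk_surjective
    haveI := SMTLib.isCohenMacaulayLocalRing_of_isCM _ hF
    have hcm' := SMTLib.isCohenMacaulayLocalRing_of_ringEquiv e
    have hfd' : ringKrullDim (T' ⧸ Ideal.span {π f}) = d := by
      rw [← ringKrullDim_eq_of_ringEquiv e]
      have h1 := ringKrullDim_quotient_span_singleton_succ_eq_ringKrullDim hxFr hxF
      obtain ⟨k, hk⟩ := exists_ringKrullDim_eq (R := F ⧸ Ideal.span {Ideal.Quotient.mk (Ideal.span {f}) x})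
      rw [hk, hfd] at h1
      have : k = d := Nat.succ_injective (by exact_mod_cast h1)
      rw [hk, this]
    have hG := ih T' hdim' (π f) hf' hcm' hfd' (K.map π) hK'
    haveI : Nontrivial (T ⧸ K) := Ideal.Quotient.nontrivial_iff.2 hKtop
    haveI : IsLocalRing (T ⧸ K) := IsLocalRing.of_surjective' (Ideal.Quotient.mk K) Ideal.Quotient.mk_surjective
    have hxK : IsSMulRegular (T ⧸ K) (Ideal.Quotient.mk K x) := IsSMulRegular.of_right_eq_zero_of_smul fun z hz => by
      obtain ⟨z, rfl⟩ := Ideal.Quotient.mk_surjective z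
      rw [smul_eq_mul, ← map_mul, Ideal.Quotient.eq_zero_iff_mem, hK, mul_assoc] at hz
      rw [Ideal.Quotient.eq_zero_iff_mem, hK]
      exact hx.right_eq_zero_of_smul hz
    have hxKm : Ideal.Quotient.mk K x ∈ maximalIdeal (T ⧸ K) := by
      rw [← IsLocalRing.map_maximalIdeal_of_surjective (Ideal.Quotient.mk K) Ideal.Quotient.mk_surjective]
      exact Ideal.mem_map_of_mem _ hxm
    refine (GorLib.gorenstein_quotient_iff hxK hxKm).2 (GorLib.gorenstein_of_ringEquiv ?_ hG)
    exact ((Ideal.quotEquivOfEq (by rw [Ideal.map_span, Set.image_singleton])).trans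
      (DoubleQuot.quotQuotEquivComm K (Ideal.span {x})))

end LiaisonLib
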